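import Mathlib
import Cfsg.Agent.Lib.CosetTable.Chain

/-!
An element fixing a base of a certified size acts trivially.
-/

namespace Cfsg.Agent.Lib.CosetTable

variable {C : Cert} {A : Table} {N : ℕ}

/-- the elements of `S` fixing the first point of every level -/
def fixBase (S : Subgroup (Equiv.Perm (Fin A.n))) : List (Orb × List (List ℕ)) →
    Set (Equiv.Perm (Fin A.n))
  | [] => S
  | (O, _) :: L => {x ∈ fixBase S L | ∀ i : Fin A.n, (i : ℕ) = O.get 0 → x i = i}

theorem levelsCard_mul_le (K : Checked C A N) :
    ∀ (L : List (Orb × List (List ℕ))), LevelsOK C A L →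
    ∀ S : Subgroup (Equiv.Perm (Fin A.n)), (∀ w ∈ levelsWords L, eval K.perm w ∈ S) →
      levelsCard L * Nat.card (fixBase S L) ≤ Nat.card S
  | [], _, S, _ => by simp [levelsCard, fixBase]
  | (O, ws) :: L, h, S, hS => by
    obtain ⟨hm, hO, hfix, -⟩ := h.1
    have hlt := h.words_lt
    have hp : O.get 0 < A.n := by
      have := hO 0 hm
      simp only [Orb.reachOK, force_eq, andB_eq, Bool.and_eq_true, blt_iff] at this
      exact this.1
    let β : Fin A.n := ⟨O.get 0, hp⟩
    let S' := S ⊓ MulAction.stabilizer (Equiv.Perm (Fin A.n)) β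
    have hS' : ∀ w ∈ levelsWords L, eval K.perm w ∈ S' := by
      refine fun w hw => ⟨hS w (List.mem_append_right _ hw), Fin.ext ?_⟩
      show ((eval K.perm w : Equiv.Perm (Fin A.n)) β : ℕ) = _
      rw [K.eval_perm (hlt w (List.mem_append_right _ hw))]
      exact beq_iff.mp (allL_spec hfix w hw)
    have hrec := levelsCard_mul_le K L h.2 S' hS'
    have hsub : fixBase S ((O, ws) :: L) ⊆ fixBase S' L := by
      rintro x ⟨hx, hxb⟩
      have key : ∀ L', x ∈ fixBase S L' → x • β = β → x ∈ fixBase S' L' := by
        intro L'
        induction L' with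
        | nil => intro a b; exact ⟨a, b⟩
        | cons q L' ih => intro a b; exact ⟨ih a.1 b, a.2⟩
      exact key L hx (hxb β rfl)
    calc levelsCard ((O, ws) :: L) * Nat.card (fixBase S ((O, ws) :: L))
        ≤ levelsCard ((O, ws) :: L) * Nat.card (fixBase S' L) :=
          Nat.mul_le_mul_left _ (Nat.card_mono (Set.toFinite _) hsub)
      _ = O.m * (levelsCard L * Nat.card (fixBase S' L)) := by rw [levelsCard, mul_assoc]
      _ ≤ O.m * Nat.card S' := Nat.mul_le_mul_left _ hrec
      _ ≤ Nat.card S := by
        have horb : O.m ≤ Nat.card (MulAction.orbit S β) := by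
          have hq : ∀ p, p < O.m → O.get p < A.n ∧ O.idx (O.get p) = p ∧
              (p = 0 ∨ (O.pP p < p ∧ O.pW p < ws.length ∧
                A.walk (ws.getD (O.pW p) []) (O.get (O.pP p)) = O.get p)) := by
            intro p hp
            have h := hO p hp
            simp only [Orb.reachOK, force_eq, andB_eq, iteB_eq, Bool.and_eq_true,
              Bool.cond_true_left, Bool.or_eq_true, beq_iff, blt_iff] at h
            exact ⟨h.1, h.2.1, h.2.2⟩
          have hmem : ∀ p (hp' : p < O.m),
              (⟨O.get p, (hq p hp').1⟩ : Fin A.n) ∈ MulAction.orbit S β := by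
            intro p hp'
            induction p using Nat.strongRecOn with
            | _ p IH =>
              rcases (hq p hp').2.2 with h0 | ⟨g1, g2, g3⟩
              · subst h0; exact MulAction.mem_orbit_self _
              · have hw : ws.getD (O.pW p) [] ∈ levelsWords ((O, ws) :: L) :=
                  List.mem_append_left _
                    (by rw [List.getD_eq_getElem _ _ g2]; exact List.getElem_mem g2)
                obtain ⟨x, hx⟩ := IH _ g1 (g1.trans hp')
                refine ⟨⟨_, hS _ hw⟩ * x, ?_⟩
                show (_ * x) • β = _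
                rw [mul_smul, show x • β = _ from hx]
                refine Fin.ext ?_
                show ((eval K.perm _ : Equiv.Perm (Fin A.n)) _ : ℕ) = _
                rw [K.eval_perm (hlt _ hw)]
                exact g3
          let e : Fin O.m → MulAction.orbit S β := fun p => ⟨_, hmem p p.2⟩
          have he : Function.Injective e := by
            intro p q hpq
            have h' : O.get p = O.get q :=
              congrArg (fun x : MulAction.orbit S β => (x.1 : ℕ)) hpq
            exact Fin.ext (by rw [← (hq p p.2).2.1, ← (hq q q.2).2.1, h'])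
          simpa using Nat.card_le_card_of_injective e he
        have e : Nat.card S' = Nat.card (MulAction.stabilizer S β) :=
          Nat.card_congr
            { toFun := fun x => ⟨⟨x.1, x.2.1⟩, x.2.2⟩
              invFun := fun x => ⟨x.1.1, x.1.2, x.2⟩
              left_inv := fun _ => rfl
              right_inv := fun _ => rfl }
        rw [Subgroup.card_eq_card_quotient_mul_card_subgroup (MulAction.stabilizer S β), e,
          ← Nat.card_congr (MulAction.orbitEquivQuotientStabilizer S β)]
        exact Nat.mul_le_mul_right _ horb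

/-- a word fixing a base fixes every point -/
theorem fixOK_of_fix_base {G : Type*} [Group G] {f : ℕ → G} (K : Checked C A N)
    (φ : G →* Equiv.Perm (Fin A.n)) (hφ : ∀ g, g < C.k → φ (f g) = K.perm g)
    (M : Model f C) {b : ℕ} (hfin : Finite G ∧ Nat.card G ≤ b)
    (L : List (Orb × List (List ℕ))) (hL : LevelsOK C A L) (hb : levelsCard L = b)
    (w : List ℕ) (hwl : allL (fun a => Nat.blt a C.k) w = true)
    (hfix : allL (fun q => A.fixOK [w] (q.1.get 0)) L = true) :
    Below (A.fixOK [w]) A.n := by
  haveI := hfin.1
  have hl : ∀ a ∈ w, a < C.k := fun a ha => blt_iff.mp (allL_spec hwl a ha)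
  have h := levelsCard_mul_le K L hL φ.range fun v hv =>
    ⟨eval f v, Checked.map_eval K M φ hφ (hL.words_lt v hv)⟩
  have hr : Nat.card φ.range ≤ b :=
    le_trans (Nat.card_le_card_of_surjective _ φ.rangeRestrict_surjective) hfin.2
  have hmem : ∀ L', (∀ q ∈ L', A.fixOK [w] (q.1.get 0) = true) →
      eval K.perm w ∈ fixBase φ.range L' := by
    intro L'
    induction L' with
    | nil => intro _; exact ⟨eval f w, Checked.map_eval K M φ hφ hl⟩
    | cons q L' ih =>
      intro hq
      refine ⟨ih fun r hr => hq r (List.mem_cons_of_mem _ hr), fun i hi => Fin.ext ?_⟩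
      rw [K.eval_perm hl]
      have := allL_spec (hq q (by simp)) w (by simp)
      rw [hi]
      exact beq_iff.mp this
  have h1 : (1 : Equiv.Perm (Fin A.n)) ∈ fixBase φ.range L := by
    clear h hb hfix hL hmem
    induction L with
    | nil => exact φ.range.one_mem
    | cons q L ih => exact ⟨ih, fun i _ => rfl⟩
  have heq : eval K.perm w = 1 := by
    have hpos : 0 < levelsCard L := by rw [hb]; exact lt_of_lt_of_le Nat.card_pos hfin.2
    have hle : Nat.card (fixBase φ.range L) ≤ 1 := by
      rw [← hb] at hr
      exact Nat.le_of_mul_le_mul_left (by rw [mul_one]; exact h.trans hr) hpos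
    have := Finite.card_le_one_iff_subsingleton.mp hle
    exact congrArg Subtype.val (Subsingleton.elim
      (⟨_, hmem L fun q hq => allL_spec hfix q hq⟩ : fixBase φ.range L) ⟨1, h1⟩)
  intro i hi
  show allL _ [w] = true
  have e := congrArg (fun p : Equiv.Perm (Fin A.n) => ((p ⟨i, hi⟩ : Fin A.n) : ℕ)) heq
  simp only [K.eval_perm hl, Equiv.Perm.one_apply] at e
  show andB (Nat.beq (A.walk w i) i) true = true
  rw [andB_eq, Bool.and_true, beq_iff]
  exact e

end Cfsg.Agent.Lib.CosetTable
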